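import Groth.Agent.H23Canon4.Quadric
import Groth.Agent.H10Coh.CI.HypMod
import Groth.Agent.H25Transversal.Main
import Groth.Agent.H11Dual.Chart
import Groth.Agent.H10Coh.Pn.Results

/-!
# Forms vanishing on a curve in projective space
-/

set_option autoImplicit false
set_option linter.style.haveILetI false
set_option backward.isDefEq.respectTransparency.types false
universe u

open CategoryTheory CategoryTheory.Limits AlgebraicGeometry TopologicalSpace Opposite MvPolynomial LefPen
open Groth.Agent.H11Tilde Groth.Agent.H11Ample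

noncomputable section

namespace Groth.Agent.H23Quintic

variable {k : Type u} [Field k] {n d : ℕ}

local notation "𝒜" => CohB1.polyGrading n k

/-- The global section of `O(d)` given by a form. -/
def formSec (G : Form n k d) : Γ(H10Coh.Pn.Od n k (d : ℤ), ⊤) :=
  secOf 𝒜 𝒜 G.2 (SetLike.one_mem_graded 𝒜)
    (V := ⊤) (fun x _ h => x.isPrime.ne_top ((Ideal.eq_top_iff_one _).2 h)) (by simp)

/-- The generator `X_j ^ d` of `O(d)` on a chart. -/
def genPos (d : ℕ) (j : Fin (n + 1)) : Γ(H10Coh.Pn.Od n k (d : ℤ), chart n k j) :=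
  secOf 𝒜 𝒜 (show MvPolynomial.X j ^ d ∈ CohB1.polyGrading n k d from by
      simpa using SetLike.pow_mem_graded d (X_mem n k j)) (SetLike.one_mem_graded 𝒜)
    (V := chart n k j) (fun x _ h => x.isPrime.ne_top ((Ideal.eq_top_iff_one _).2 h)) (by simp)

theorem isGen_genPos (j : Fin (n + 1)) : IsGen (H10Coh.Pn.Od n k (d : ℤ)) (genPos (k := k) d j) := by
  refine isGen_of_bijective fun W hW => ?_
  have hax : ∀ x ∈ W, (MvPolynomial.X j ^ d : MvPolynomial (Fin (n + 1)) k) ∉ x.asHomogeneousIdeal :=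
    fun x hx => pow_notMem 𝒜 (hW hx) d
  have hbx : ∀ x ∈ W, (1 : MvPolynomial (Fin (n + 1)) k) ∉ x.asHomogeneousIdeal :=
    fun x _ h => x.isPrime.ne_top ((Ideal.eq_top_iff_one _).2 h)
  have ha : MvPolynomial.X j ^ d ∈ CohB1.polyGrading n k d := by
    simpa using SetLike.pow_mem_graded d (X_mem n k j)
  have hdeg : (d : ℤ) = ((0 : ℕ) : ℤ) + (d : ℤ) := by simp
  exact bijective_smul_gen (n := (d : ℤ)) 𝒜 ha (SetLike.one_mem_graded 𝒜) hax hbx hdeg _ fun x =>
    (sval_map 𝒜 𝒜 hW (genPos d j) x).trans rfl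

theorem formSec_res (G : Form n k d) (j : Fin (n + 1)) :
    (H10Coh.Pn.Od n k (d : ℤ)).presheaf.map (homOfLE (le_top : chart n k j ≤ ⊤)).op (formSec G) =
      (show Γ(Proj (CohB1.polyGrading n k), chart n k j) from dehom G j) • genPos (k := k) d j := by
  refine sval_ext 𝒜 𝒜 fun x => ?_
  refine (sval_map 𝒜 𝒜 le_top (formSec G) x).trans (Eq.trans ?_ (sval_smul 𝒜 𝒜 (dehom G j) _ x).symm)
  rw [H10Coh.CI.fval_dehom G j x]
  refine Eq.trans ?_ (LocalizedModule.mk_smul_mk _ _ _ _).symm
  refine LocalizedModule.mk_eq.2 ⟨1, ?_⟩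
  simp only [Submonoid.smul_def, Submonoid.coe_mul, smul_eq_mul, one_smul]
  ring

theorem psiG_formSec (G : Form n k d) :
    H10Coh.Pn.psiG (n := n) (R := k) (d := (d : ℤ)) (formSec G) = H10Coh.Pn.toL n k G.1 := by
  refine H10Coh.Pn.psi_eq (H10Coh.Pn.degree_qa_pos (fun _ : Fin 1 => (0 : Fin (n + 1)))) ⟨d, G.1, 0, fun x _ h => ?_, G.2, by simp, by simp [show (H10Coh.Pn.T (0 : _) : H10Coh.Pn.L n k) = 1 from H10Coh.Pn.T_zero], fun x => ?_⟩
  · exact x.isPrime.ne_top ((Ideal.eq_top_iff_one _).2 (by simpa [H10Coh.Pn.mon] using h))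
  · refine (sval_map 𝒜 𝒜 le_top (formSec G) x).trans ?_
    exact fracAt_congr 𝒜 x.1 _ _ rfl (by simp [H10Coh.Pn.mon])

theorem formSec_add (G H : Form n k d) : formSec (G + H) = formSec G + formSec H := by
  refine H10Coh.Pn.psiG_injective (n := n) (R := k) (d := (d : ℤ)) ?_
  rw [map_add, psiG_formSec, psiG_formSec, psiG_formSec]
  exact map_add (H10Coh.Pn.toL n k) G.1 H.1

theorem formSec_smul (c : k) (G : Form n k d) :
    formSec (c • G) =
      (H10Coh.Pn.constΓ c : Γ(CohB1.ProjSpace n k, ⊤)) • formSec G := by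
  refine H10Coh.Pn.psiG_injective (n := n) (R := k) (d := (d : ℤ)) ?_
  rw [H10Coh.Pn.psiG_smul, psiG_formSec, psiG_formSec, Submodule.coe_smul, MvPolynomial.smul_eq_C_mul, map_mul,
    C_apply, H10Coh.Pn.toL_monomial, map_zero]
  exact (Algebra.smul_def c _).symm

/-- The dehomogenization as a function on `Proj`. -/
abbrev dehomP (G : Form n k d) (j : Fin (n + 1)) :
    Γ(Proj (CohB1.polyGrading n k), Proj.basicOpen (CohB1.polyGrading n k) (MvPolynomial.X j)) :=
  dehom G j

/-- Forms as sections of the pulled back twist, linearly. -/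
def evalForm {X : Scheme.{u}} [X.Over (Spec (CommRingCat.of k))] (i : X ⟶ Proj (CohB1.polyGrading n k))
    (hi : i ≫ H10Coh.Pn.toS n k = X ↘ Spec (CommRingCat.of k)) (d : ℕ) :
    Form n k d →ₗ[k] Coh.HH X ((Scheme.Modules.pullback i).obj (H10Coh.Pn.Od n k (d : ℤ))) 0 where
  toFun G := (H29RR.sec _).symm (OmegaSh.pullSect i _ ⊤ (formSec G))
  map_add' G H := by
    rw [formSec_add, map_add]
    exact map_add (H29RR.sec _).symm _ _
  map_smul' c G := by
    have hc : i.app ⊤ (H10Coh.Pn.constΓ (n := n) (R := k) c) = H10Coh.globA (A := k) (X := X) c := by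
      show i.app ⊤ ((H10Coh.Pn.toS n k).appTop ((Scheme.ΓSpecIso (CommRingCat.of k)).inv c)) =
        (X ↘ Spec (CommRingCat.of k)).appTop ((Scheme.ΓSpecIso (CommRingCat.of k)).inv c)
      rw [← hi]
      rfl
    apply (H29RR.sec _).injective
    rw [AddEquiv.apply_symm_apply, RingHom.id_apply, H29RR.sec_smul, AddEquiv.apply_symm_apply]
    rw [show formSec (c • G) = (H10Coh.Pn.constΓ (n := n) (R := k) c : Γ(Proj (CohB1.polyGrading n k), ⊤)) • formSec G
      from formSec_smul c G, OmegaSh.pullSect_smul, hc]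
    rfl

theorem finrank_form (n d : ℕ) : Module.finrank k (Form n k d) = (d + n).choose n :=
  (H3CAlg.finrank_homogeneous n d).2

theorem app_dehom_eq_zero {X : Scheme.{u}} (i : X ⟶ Proj (CohB1.polyGrading n k)) (G : Form n k d)
    (h : OmegaSh.pullSect i (H10Coh.Pn.Od n k (d : ℤ)) ⊤ (formSec G) = 0) (j : Fin (n + 1)) :
    i.app _ (dehomP G j) = 0 := by
  let U : (Proj (CohB1.polyGrading n k)).Opens := Proj.basicOpen (CohB1.polyGrading n k) (MvPolynomial.X j)
  have h0 : OmegaSh.pullSect i (H10Coh.Pn.Od n k (d : ℤ)) U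
      ((H10Coh.Pn.Od n k (d : ℤ)).presheaf.map (homOfLE (le_top : U ≤ ⊤)).op (formSec G)) = 0 := by
    rw [pullSect_res i _ (le_top : U ≤ ⊤), h, map_zero]
  have hres : (H10Coh.Pn.Od n k (d : ℤ)).presheaf.map (homOfLE (le_top : U ≤ ⊤)).op (formSec G) =
      dehomP G j • (show Γ(H10Coh.Pn.Od n k (d : ℤ), U) from genPos (k := k) d j) := formSec_res G j
  rw [hres, OmegaSh.pullSect_smul] at h0
  exact ((IsGen.pullSect i (isGen_genPos (k := k) (d := d) j)).bijective le_rfl).1 (a₁ := i.app U (dehomP G j))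
    (a₂ := 0) (by
      beta_reduce
      rw [H10Coh.mres_self]
      exact h0.trans (zero_smul _ _).symm)

theorem hypIdeal_le_ker {X : Scheme.{u}} (i : X ⟶ CohB1.ProjSpace n k) [QuasiCompact i] (G : Form n k d)
    (h : ∀ j, i.app _ (dehom G j) = 0) : hypIdeal G ≤ i.ker := by
  refine Scheme.IdealSheafData.le_of_iSup_eq_top (fun j => H25Transversal.chartU n k j) ?_ fun j => ?_
  · refine eq_top_iff.2 fun x _ => ?_
    obtain ⟨j, hj⟩ := H10Coh.CI.exists_chart_mem x
    exact TopologicalSpace.Opens.mem_iSup.2 ⟨j, hj⟩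
  · rw [H25Transversal.hypIdeal_ideal_chart]
    refine (Ideal.span_singleton_le_iff_mem _).2 ?_
    rw [Scheme.Hom.ker_apply]
    exact RingHom.mem_ker.2 (h j)

/-- Forms vanishing on `i` outside a given small space. -/
theorem exists_form_vanishing {X : Scheme.{u}} [X.Over (Spec (CommRingCat.of k))] (i : X ⟶ CohB1.ProjSpace n k)
    [QuasiCompact i] (hi : i ≫ CohB1.ProjSpace.toSpec n k = X ↘ Spec (CommRingCat.of k)) (d : ℕ)
    [FiniteDimensional k (Coh.HH X ((Scheme.Modules.pullback (Y := Proj (CohB1.polyGrading n k)) i).obj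
      (H10Coh.Pn.Od n k (d : ℤ))) 0)]
    (W : Submodule k (Form n k d))
    (hW : Module.finrank k W + Module.finrank k
      (Coh.HH X ((Scheme.Modules.pullback (Y := Proj (CohB1.polyGrading n k)) i).obj
        (H10Coh.Pn.Od n k (d : ℤ))) 0) < (d + n).choose n) :
    ∃ G : Form n k d, G ∉ W ∧ hypIdeal G ≤ i.ker := by
  haveI : FiniteDimensional k (Form n k d) := (H3CAlg.finrank_homogeneous n d).1
  let i' : X ⟶ Proj (CohB1.polyGrading n k) := i
  let Φ := evalForm i' hi d
  obtain ⟨G, hG, hGW⟩ : ∃ G ∈ LinearMap.ker Φ, G ∉ W := by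
    refine SetLike.not_le_iff_exists.1 fun hle => ?_
    have h1 := LinearMap.finrank_range_add_finrank_ker Φ
    have h2 : Module.finrank k (LinearMap.range Φ) ≤ Module.finrank k
        (Coh.HH X ((Scheme.Modules.pullback (Y := Proj (CohB1.polyGrading n k)) i).obj
          (H10Coh.Pn.Od n k (d : ℤ))) 0) := Submodule.finrank_le (LinearMap.range Φ)
    have h3 := Submodule.finrank_mono hle
    rw [finrank_form] at h1
    omega
  exact ⟨G, hGW, hypIdeal_le_ker i G (app_dehom_eq_zero i' G ((H29RR.sec _).symm.injective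
    ((LinearMap.mem_ker.1 hG).trans (map_zero _).symm)))⟩

theorem eq_pull {d : ℕ} {X : Scheme.{u}} (i : X ⟶ CohB1.ProjSpace n k) :
    (Scheme.Modules.pullback (Y := Proj (CohB1.polyGrading n k)) i).obj (H10Coh.Pn.Od n k (d : ℤ)) =
      (Scheme.Modules.pullback i).obj (Twist.twistProjSpace n k (d : ℤ)) := rfl
theorem exists_form_vanishing' {X : Scheme.{u}} [X.Over (Spec (CommRingCat.of k))] (i : X ⟶ CohB1.ProjSpace n k)
    [QuasiCompact i] (hi : i ≫ CohB1.ProjSpace.toSpec n k = X ↘ Spec (CommRingCat.of k)) (d : ℕ)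
    (hfin : FiniteDimensional k (Coh.HH X ((Scheme.Modules.pullback i).obj (Twist.twistProjSpace n k (d : ℤ))) 0))
    (W : Submodule k (Form n k d))
    (hW : Module.finrank k W + Module.finrank k
      (Coh.HH X ((Scheme.Modules.pullback i).obj (Twist.twistProjSpace n k (d : ℤ))) 0) < (d + n).choose n) :
    ∃ G : Form n k d, G ∉ W ∧ hypIdeal G ≤ i.ker := by
  rw [← eq_pull i] at hfin hW
  exact exists_form_vanishing i hi d W hW
/-- Multiplication by a linear form. -/
def mulForm (l : Form n k 1) : Form n k 1 →ₗ[k] Form n k 2 where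
  toFun m := ⟨l.1 * m.1, SetLike.mul_mem_graded l.2 m.2⟩
  map_add' a b := Subtype.ext (mul_add l.1 a.1 b.1)
  map_smul' c a := Subtype.ext (mul_smul_comm c l.1 a.1)

theorem notMem_span_of_notMem_range (l : Form n k 1) {q : Form n k 2} (hq : q ∉ LinearMap.range (mulForm l)) :
    q.1 ∉ Ideal.span {l.1} := by
  intro h
  obtain ⟨m, hm⟩ := Ideal.mem_span_singleton'.1 h
  refine hq ⟨⟨homogeneousComponent 1 m, homogeneousComponent_mem 1 m⟩, Subtype.ext ?_⟩
  show l.1 * homogeneousComponent 1 m = q.1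
  have key : ∀ N, homogeneousComponent 2 (l.1 * ∑ i ∈ Finset.range N, homogeneousComponent i m) =
      if 1 < N then l.1 * homogeneousComponent 1 m else 0 := fun N => by
    rw [Finset.mul_sum, map_sum]
    have hterm : ∀ i, homogeneousComponent 2 (l.1 * homogeneousComponent i m) =
        if i = 1 then l.1 * homogeneousComponent 1 m else 0 := fun i => by
      rw [homogeneousComponent_of_mem (n := 1 + i) (SetLike.mul_mem_graded l.2 (homogeneousComponent_mem i m))]
      by_cases hi : i = 1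
      · subst hi; simp
      · rw [if_neg hi, if_neg (by omega)]
    simp only [hterm]
    rw [Finset.sum_ite_eq']
    simp
  have h2 := congrArg (homogeneousComponent 2) hm
  rw [homogeneousComponent_of_mem (n := 2) q.2, if_pos rfl, mul_comm m] at h2
  rw [← h2]
  nth_rewrite 2 [← sum_homogeneousComponent m]
  rw [key]
  split_ifs with hN
  · rfl
  · rw [homogeneousComponent_eq_zero 1 m (by omega), mul_zero]

end Groth.Agent.H23Quintic
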